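import Groth.Agent.S0591
import Groth.Agent.H7Lim.DescendAffine
import Mathlib.AlgebraicGeometry.Morphisms.UniversallyOpen

/-! Descent of covering families along cofiltered limits with affine transition maps. -/

set_option autoImplicit false

universe u

open CategoryTheory Limits AlgebraicGeometry TopologicalSpace

namespace Groth.Agent.H26Lim

variable {I : Type u} [SmallCategory I] {D : I ⥤ Scheme.{u}} {c : Cone D}

lemma exists_baseChange {U V : Scheme.{u}} {i : I} {e : U ⟶ V} {u : U ⟶ c.pt} {v : V ⟶ D.obj i}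
    (h : IsPullback e u v (c.π.app i)) {i' : I} (ψ : i' ⟶ i) :
    ∃ e' : U ⟶ pullback v (D.map ψ), IsPullback e' u (pullback.snd v (D.map ψ)) (c.π.app i') := by
  refine ⟨pullback.lift e (u ≫ c.π.app i') (by rw [Category.assoc, c.w, h.w]), ?_⟩
  refine IsPullback.of_right (h₁₂ := pullback.fst v (D.map ψ)) (h₂₂ := D.map ψ) (v₁₃ := v) ?_
    (pullback.lift_snd _ _ _) (IsPullback.of_hasPullback v (D.map ψ))
  rw [pullback.lift_fst, c.w]
  exact h

variable [IsCofiltered I] [∀ (i j : I) (t : i ⟶ j), IsAffineHom (D.map t)]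

theorem exists_descend_cover (hc : IsLimit c) (i₀ : I) [CompactSpace (D.obj i₀)]
    [QuasiSeparatedSpace (D.obj i₀)] {P : MorphismProperty Scheme.{u}} [P.IsStableUnderBaseChange]
    (hP : ∀ {U V : Scheme.{u}} (f : U ⟶ V), P f → LocallyOfFinitePresentation f → UniversallyOpen f)
    (hdesc : H7Lim.Descends P @LocallyOfFinitePresentation)
    {ι : Type u} (U : ι → Scheme.{u}) (u : ∀ a, U a ⟶ c.pt) (hu : ∀ a, P (u a))
    [∀ a, LocallyOfFinitePresentation (u a)] [∀ a, QuasiCompact (u a)] [∀ a, QuasiSeparated (u a)]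
    (hcov : ∀ x : c.pt, ∃ (a : ι) (y : U a), u a y = x) :
    ∃ (i : I) (n : ℕ) (V : Fin n → Scheme.{u}) (v : ∀ j, V j ⟶ D.obj i) (a : Fin n → ι)
      (e : ∀ j, U (a j) ⟶ V j),
      (∀ j, P (v j) ∧ LocallyOfFinitePresentation (v j) ∧ QuasiCompact (v j) ∧ QuasiSeparated (v j)) ∧
      (∀ x : D.obj i, ∃ (j : Fin n) (y : V j), v j y = x) ∧
      ∀ j, IsPullback (e j) (u (a j)) (v j) (c.π.app i) := by
  classical
  -- a finite subfamily
  haveI : IsAffineHom (c.π.app i₀) := isAffineHom_π_app D c hc i₀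
  haveI : CompactSpace c.pt := QuasiCompact.compactSpace_of_compactSpace (c.π.app i₀)
  obtain ⟨t, ht⟩ := isCompact_univ.elim_finite_subcover (fun a => Set.range (u a))
    (fun a => by
      haveI := hP (u a) (hu a) inferInstance
      exact (u a).isOpenMap.isOpen_range)
    (fun x _ => Set.mem_iUnion.2 (hcov x))
  let a : Fin t.card → ι := fun k => (t.equivFin.symm k).1
  have ha : ∀ x : c.pt, ∃ (k : Fin t.card) (y : U (a k)), u (a k) y = x := fun x => by
    obtain ⟨b, hb, y, hy⟩ := Set.mem_iUnion₂.1 (ht (Set.mem_univ x))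
    obtain ⟨k, rfl⟩ : ∃ k, a k = b := ⟨t.equivFin ⟨b, hb⟩, by simp [a]⟩
    exact ⟨k, y, hy⟩
  -- models over the stages above `i₀`
  let D' : Over i₀ ⥤ Scheme.{u} := Over.forget i₀ ⋙ D
  let c' : Cone D' := c.whisker (Over.forget i₀)
  have hc' : IsLimit c' := (Functor.Initial.isLimitWhiskerEquiv (Over.forget i₀) c).symm hc
  haveI : ∀ j, CompactSpace (D'.obj j) := fun j => H7Lim.compactSpace_of_hom D j.hom
  haveI : ∀ j, QuasiSeparatedSpace (D'.obj j) := fun j => H7Lim.quasiSeparatedSpace_of_hom D j.hom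
  haveI : ∀ (i j : Over i₀) (f : i ⟶ j), IsAffineHom (D'.map f) := fun i j f =>
    inferInstanceAs (IsAffineHom (D.map f.left))
  choose ik Xk fk gk hlfp hqc hqs hpb using fun k => Groth.Agent.S0591.result D' c' hc' (U (a k)) (u (a k))
  obtain ⟨S, hS⟩ := IsCofiltered.inf_objs_exists (Finset.univ.image ik)
  let φ : ∀ k, S ⟶ ik k := fun k => (hS (Finset.mem_image_of_mem ik (Finset.mem_univ k))).some
  let v₁ : ∀ k, pullback (fk k) (D'.map (φ k)) ⟶ D'.obj S := fun k => pullback.snd _ _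
  choose e₁ he₁ using fun k => exists_baseChange (c := c') (hpb k) (φ k)
  haveI : ∀ k, LocallyOfFinitePresentation (v₁ k) := fun k => MorphismProperty.pullback_snd _ _ (hlfp k)
  haveI : ∀ k, QuasiCompact (v₁ k) := fun k => MorphismProperty.pullback_snd _ _ (hqc k)
  haveI : ∀ k, QuasiSeparated (v₁ k) := fun k => MorphismProperty.pullback_snd _ _ (hqs k)
  -- descend `P`
  have hP₁ : ∀ k, ∃ (j : Over i₀) (ψ : j ⟶ S), P (pullback.snd (v₁ k) (D'.map ψ)) := fun k => by
    haveI : CompactSpace ↑(pullback (fk k) (D'.map (φ k))) := QuasiCompact.compactSpace_of_compactSpace (v₁ k)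
    haveI : QuasiSeparatedSpace ↑(pullback (fk k) (D'.map (φ k))) := quasiSeparatedSpace_of_quasiSeparated (v₁ k)
    exact hdesc (Over i₀) D' c' hc' S (v₁ k) inferInstance ((H7Lim.prop_iff_of_isPullback (he₁ k)).1 (hu (a k)))
  obtain ⟨J, ψ, hψ⟩ := H7Lim.exists_common_stage S
    (fun k j ψ => P (pullback.snd (v₁ k) (D'.map ψ))) hP₁
    (fun k j j' ψ χ h => H7Lim.prop_snd_of_fac (D'.map χ) (D'.map_comp χ ψ).symm h)
  let v₂ : ∀ k, pullback (v₁ k) (D'.map ψ) ⟶ D'.obj J := fun k => pullback.snd _ _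
  choose e₂ he₂ using fun k => exists_baseChange (c := c') (he₁ k) ψ
  have hv₂ : ∀ k, P (v₂ k) ∧ LocallyOfFinitePresentation (v₂ k) ∧ QuasiCompact (v₂ k) ∧ QuasiSeparated (v₂ k) :=
    fun k => ⟨hψ k, MorphismProperty.pullback_snd _ _ inferInstance, MorphismProperty.pullback_snd _ _ inferInstance,
      MorphismProperty.pullback_snd _ _ inferInstance⟩
  -- eventually surjective
  let Z : TopologicalSpace.Closeds ↥(D'.obj J) := ⟨(⋃ k, Set.range (v₂ k))ᶜ, by
    refine (isOpen_iUnion fun k => ?_).isClosed_compl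
    haveI := hP _ (hv₂ k).1 (hv₂ k).2.1
    exact (v₂ k).isOpenMap.isOpen_range⟩
  let zι := (Scheme.IdealSheafData.vanishingIdeal Z).subschemeι
  have hz : Set.range zι = (⋃ k, Set.range (v₂ k))ᶜ := by
    rw [Scheme.IdealSheafData.range_subschemeι, Scheme.IdealSheafData.coe_support_vanishingIdeal]
    rfl
  haveI : CompactSpace ↑(Scheme.IdealSheafData.vanishingIdeal Z).subscheme :=
    QuasiCompact.compactSpace_of_compactSpace zι
  have hempty : IsEmpty ↑(pullback zι (c'.π.app J)) := ⟨fun p => by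
    obtain ⟨k, y, hy⟩ := ha (pullback.snd zι (c'.π.app J) p)
    have h1 : zι (pullback.fst zι (c'.π.app J) p) ∈ ⋃ k, Set.range (v₂ k) := by
      refine Set.mem_iUnion.2 ⟨k, e₂ k y, ?_⟩
      rw [← Scheme.Hom.comp_apply, (he₂ k).w, Scheme.Hom.comp_apply, hy, ← Scheme.Hom.comp_apply,
        ← pullback.condition, Scheme.Hom.comp_apply]
    exact ((Set.ext_iff.1 hz _).1 ⟨_, rfl⟩) h1⟩
  obtain ⟨K, χ, hK⟩ := H7Lim.exists_isEmpty_pullback D' J zι hc' hempty
  choose e₃ he₃ using fun k => exists_baseChange (c := c') (he₂ k) χ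
  refine ⟨K.left, t.card, fun k => pullback (v₂ k) (D'.map χ), fun k => pullback.snd _ _, a, e₃,
    fun k => ⟨MorphismProperty.pullback_snd _ _ (hv₂ k).1, MorphismProperty.pullback_snd _ _ (hv₂ k).2.1,
      MorphismProperty.pullback_snd _ _ (hv₂ k).2.2.1, MorphismProperty.pullback_snd _ _ (hv₂ k).2.2.2⟩,
    fun x => ?_, he₃⟩
  have hx : D'.map χ x ∈ ⋃ k, Set.range (v₂ k) := by
    by_contra hx
    obtain ⟨y, hy⟩ := hz.ge hx
    obtain ⟨z, -, -⟩ := Scheme.Pullback.exists_preimage_pullback y x hy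
    exact hK.false z
  obtain ⟨k, y, hy⟩ := Set.mem_iUnion.1 hx
  obtain ⟨z, -, hz'⟩ := Scheme.Pullback.exists_preimage_pullback y x hy
  exact ⟨k, z, hz'⟩

end Groth.Agent.H26Lim
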