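import Groth.Agent.H7Lim.Basic
import Groth.Agent.H29Blow.Basic

/-! An inclusion of quasi-coherent ideals on a cofiltered limit holds at some stage, the smaller one being of finite type. -/

set_option autoImplicit false

universe u

open CategoryTheory Limits AlgebraicGeometry TopologicalSpace

namespace Groth.Agent.H26Lim

lemma app_eq_zero_congr {X Y : Scheme.{u}} {f f' : X ⟶ Y} (h : f = f') {U : Y.Opens} {g : Γ(Y, U)}
    (hg : f.app U g = 0) : f'.app U g = 0 := by subst h; exact hg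

variable {X : Scheme.{u}}

lemma mem_comap_iff {Y : Scheme.{u}} (K : Y.IdealSheafData) (f : X ⟶ Y) [IsAffineHom f] (U : Y.affineOpens)
    (g : Γ(Y, U.1)) :
    f.app U.1 g ∈ (K.comap f).ideal ⟨f ⁻¹ᵁ U.1, U.2.preimage f⟩ ↔
      (pullback.fst K.subschemeι f ≫ K.subschemeι).app U.1 g = 0 := by
  have e : K.comap f = (pullback.snd K.subschemeι f).ker := by
    show (pullback.fst f K.subschemeι).ker = _
    rw [← pullbackSymmetry_hom_comp_snd f K.subschemeι, Scheme.Hom.ker_comp_of_isIso]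
  rw [e, Scheme.Hom.ker_apply, RingHom.mem_ker]
  constructor <;> intro h
  · exact app_eq_zero_congr pullback.condition.symm
      (by rw [Scheme.Hom.comp_app]; exact h)
  · have := app_eq_zero_congr pullback.condition h
    rw [Scheme.Hom.comp_app] at this
    exact this

variable {I : Type u} [Category.{u} I] [IsCofiltered I] {D : I ⥤ Scheme.{u}} {c : Cone D}
  [∀ (i j : I) (f : i ⟶ j), IsAffineHom (D.map f)]

lemma exists_mem_comap (hc : IsLimit c) {i : I} (K : (D.obj i).IdealSheafData) (U : (D.obj i).affineOpens)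
    (g : Γ(D.obj i, U.1)) [IsAffineHom (c.π.app i)]
    (h : (c.π.app i).app U.1 g ∈ (K.comap (c.π.app i)).ideal ⟨_, U.2.preimage (c.π.app i)⟩) :
    ∃ (j : I) (φ : j ⟶ i), (D.map φ).app U.1 g ∈ (K.comap (D.map φ)).ideal ⟨_, U.2.preimage (D.map φ)⟩ := by
  rw [mem_comap_iff] at h
  haveI : ∀ {j k : Over i} (f : j ⟶ k), IsAffineHom ((H7Lim.pbDiagram D i K.subschemeι).map f) :=
    fun {j k} f => H7Lim.isAffineHom_pbDiagram_map D i K.subschemeι j k f
  let e₀ : Over i := Over.mk (𝟙 i)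
  let b : (H7Lim.pbDiagram D i K.subschemeι).obj e₀ ⟶ D.obj i := pullback.fst _ _ ≫ K.subschemeι
  haveI : IsAffineHom b := MorphismProperty.comp_mem _ _ _ (MorphismProperty.pullback_fst _ _ inferInstance) inferInstance
  have hU : IsAffineOpen (b ⁻¹ᵁ U.1) := U.2.preimage b
  obtain ⟨k, ψ, hk⟩ := exists_app_map_eq_zero_of_isLimit (H7Lim.pbDiagram D i K.subschemeι) _
    (H7Lim.isLimitPbCone D i K.subschemeι hc) (i := e₀) hU.isCompact (b.app U.1 g) (by
      have e : pullback.fst K.subschemeι (c.π.app i) ≫ K.subschemeι =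
          (H7Lim.pbCone D c i K.subschemeι).π.app e₀ ≫ b := by
        simp [b, pullback.map]
        exact (pullback.lift_fst_assoc _ _ _ _).symm
      have := app_eq_zero_congr e h
      rw [Scheme.Hom.comp_app] at this
      exact this)
  refine ⟨k.left, k.hom, (mem_comap_iff _ _ _ _).2 ?_⟩
  refine app_eq_zero_congr (f := (H7Lim.pbDiagram D i K.subschemeι).map ψ ≫ b) (by simp [b, pullback.map]; exact pullback.lift_fst_assoc _ _ _ _) ?_
  rw [Scheme.Hom.comp_app]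
  exact hk

omit [IsCofiltered I] in
lemma mem_comap_up {i j k : I} (K : (D.obj i).IdealSheafData) (U : (D.obj i).affineOpens) (g : Γ(D.obj i, U.1))
    (φ : j ⟶ i) (ψ : k ⟶ j) (h : (D.map φ).app U.1 g ∈ (K.comap (D.map φ)).ideal ⟨_, U.2.preimage (D.map φ)⟩) :
    (D.map (ψ ≫ φ)).app U.1 g ∈ (K.comap (D.map (ψ ≫ φ))).ideal ⟨_, U.2.preimage (D.map (ψ ≫ φ))⟩ := by
  rw [mem_comap_iff] at h ⊢
  refine app_eq_zero_congr (f := pullback.map K.subschemeι (D.map (ψ ≫ φ)) K.subschemeι (D.map φ) (𝟙 _) (D.map ψ) (𝟙 _)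
    (by simp) (by simp) ≫ pullback.fst K.subschemeι (D.map φ) ≫ K.subschemeι) (by simp [pullback.map]; exact pullback.lift_fst_assoc _ _ _ _) ?_
  rw [Scheme.Hom.comp_app]
  show _ = _
  erw [CommRingCat.comp_apply, h, map_zero]

theorem exists_comap_le (hc : IsLimit c) {i : I} [CompactSpace (D.obj i)] (J K : (D.obj i).IdealSheafData)
    (hJ : ∀ x : D.obj i, ∃ U : (D.obj i).affineOpens, x ∈ U.1 ∧ (J.ideal U).FG)
    (h : J.comap (c.π.app i) ≤ K.comap (c.π.app i)) :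
    ∃ (j : I) (φ : j ⟶ i), J.comap (D.map φ) ≤ K.comap (D.map φ) := by
  classical
  haveI := isAffineHom_π_app D c hc i
  choose U hxU hU using hJ
  obtain ⟨t, ht⟩ := isCompact_univ.elim_finite_subcover (fun x => ((U x).1 : Set (D.obj i)))
    (fun x => (U x).1.isOpen) (fun x _ => Set.mem_iUnion.2 ⟨x, hxU x⟩)
  choose G hG using hU
  let κ := Σ x : t, G x.1
  have key : ∀ p : κ, ∃ (j : I) (φ : j ⟶ i),
      (D.map φ).app (U p.1.1).1 p.2.1 ∈ (K.comap (D.map φ)).ideal ⟨_, (U p.1.1).2.preimage (D.map φ)⟩ := by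
    intro p
    refine exists_mem_comap hc K (U p.1.1) p.2.1 (h _ ?_)
    rw [H29Blow.ideal_comap J (c.π.app i) (U p.1.1) ⟨_, (U p.1.1).2.preimage _⟩ le_rfl, ← Scheme.Hom.app_eq_appLE]
    exact Ideal.mem_map_of_mem _ ((hG p.1.1).le (Ideal.subset_span p.2.2))
  choose j φ hφ using key
  obtain ⟨n, ⟨eκ⟩⟩ := Finite.exists_equiv_fin κ
  obtain ⟨k, ψ, χ, hχ⟩ := IsCofiltered.wideCospan fun a => φ (eκ.symm a)
  refine ⟨k, ψ, sup_eq_right.1 (Scheme.IdealSheafData.ext_of_iSup_eq_top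
    (fun x : t => ⟨D.map ψ ⁻¹ᵁ (U x.1).1, (U x.1).2.preimage (D.map ψ)⟩) ?_ fun x => ?_)⟩
  · refine top_le_iff.1 fun y _ => ?_
    obtain ⟨x, hx, hy⟩ := Set.mem_iUnion₂.1 (ht (Set.mem_univ (D.map ψ y)))
    exact Opens.mem_iSup.2 ⟨⟨x, hx⟩, hy⟩
  · rw [Scheme.IdealSheafData.ideal_sup, Pi.sup_apply, sup_eq_right,
      H29Blow.ideal_comap J (D.map ψ) (U x.1) ⟨_, (U x.1).2.preimage _⟩ le_rfl, ← Scheme.Hom.app_eq_appLE,
      ← hG x.1, Ideal.map_span, Ideal.span_le]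
    rintro _ ⟨g, hg, rfl⟩
    obtain ⟨a, ha⟩ := eκ.symm.surjective ⟨x, g, hg⟩
    have hmem := hφ (eκ.symm a)
    have h2 := mem_comap_up K (U (eκ.symm a).1.1) (eκ.symm a).2.1 (φ _) (χ a) hmem
    rw [hχ a] at h2
    rw [ha] at h2
    exact h2

end Groth.Agent.H26Lim
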